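import Groth.Agent.DCohLib.StalkTensor

/-!
# Maps out of tensor products of sheaves of modules from bilinear maps on sections
-/

set_option autoImplicit false
set_option linter.style.haveILetI false

universe u

open CategoryTheory CategoryTheory.Limits AlgebraicGeometry TopologicalSpace Opposite MonoidalCategory
open Groth.Agent.PullbackMod
open scoped TensorProduct

noncomputable section

namespace Groth.Agent.LefEtaleLib

open Groth.Agent.ModTensor Groth.Agent.PullFlat Groth.Agent.DCohLib

variable {X : Scheme.{u}} {M N P : X.Modules}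

/-- A natural bilinear family on sections. -/
structure Bilin (M N P : X.Modules) where
  b : ∀ U : X.Opens, Γ(M, U) →+ Γ(N, U) →+ Γ(P, U)
  smul_left : ∀ (U : X.Opens) (r : Γ(X, U)) (m : Γ(M, U)) (n : Γ(N, U)), b U (r • m) n = r • b U m n
  smul_right : ∀ (U : X.Opens) (r : Γ(X, U)) (m : Γ(M, U)) (n : Γ(N, U)), b U m (r • n) = r • b U m n
  res : ∀ {U V : X.Opens} (i : V ⟶ U) (m : Γ(M, U)) (n : Γ(N, U)),
    b V (M.presheaf.map i.op m) (N.presheaf.map i.op n) = P.presheaf.map i.op (b U m n)

variable (β : Bilin M N P)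

def Bilin.app (U : X.Opens) : Γ(M, U) ⊗[Γ(X, U)] Γ(N, U) →+ Γ(P, U) :=
  TensorProduct.liftAddHom (β.b U) fun r m n => (β.smul_left U r m n).trans (β.smul_right U r m n).symm

theorem Bilin.app_smul (U : X.Opens) (r : Γ(X, U)) (z : Γ(M, U) ⊗[Γ(X, U)] Γ(N, U)) :
    β.app U (r • z) = r • β.app U z := by
  induction z using TensorProduct.induction_on with
  | zero => rw [smul_zero, map_zero, smul_zero]
  | tmul m n =>
    rw [TensorProduct.smul_tmul']
    exact β.smul_left U r m n
  | add a b ha hb => rw [smul_add, map_add, ha, hb, map_add, smul_add]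

theorem Bilin.app_res {U V : X.Opens} (i : V ⟶ U) (z : Γ(M, U) ⊗[Γ(X, U)] Γ(N, U)) :
    β.app V (ModTensor.res (pre X.sheaf M ⊗ pre X.sheaf N) i.op z) = P.presheaf.map i.op (β.app U z) := by
  induction z using TensorProduct.induction_on with
  | zero =>
    exact ((congrArg _ (map_zero _)).trans (map_zero _)).trans
      ((congrArg _ (map_zero (β.app U))).trans (map_zero _)).symm
  | tmul m n =>
    exact (congrArg _ (res_tmul (pre X.sheaf M) (pre X.sheaf N) i.op m n)).trans (β.res i m n)
  | add a b ha hb =>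
    exact ((congrArg _ (map_add _ a b)).trans ((map_add _ _ _).trans (congrArg₂ (· + ·) ha hb))).trans
      ((congrArg _ (map_add (β.app U) a b)).trans (map_add _ _ _)).symm

/-- The presheaf map of a bilinear family. -/
def Bilin.liftPre : pre X.sheaf M ⊗ pre X.sheaf N ⟶ pre X.sheaf P :=
  PresheafOfModules.homMk
    { app := fun U => AddCommGrpCat.ofHom (β.app U.unop)
      naturality := fun {U V} i => by
        refine AddCommGrpCat.hom_ext (AddMonoidHom.ext fun z => ?_)
        exact β.app_res i.unop z }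
    fun U r z => β.app_smul U.unop r z

/-- Maps out of the tensor product as presheaf maps. -/
def tensorEquiv (M N P : X.Modules) : (tmod M N ⟶ P) ≃ (pre X.sheaf M ⊗ pre X.sheaf N ⟶ pre X.sheaf P) :=
  (PresheafOfModules.sheafificationAdjunction (𝟙 (ModSite.ringSh X.sheaf).obj)).homEquiv _ _

/-- The map out of the tensor product of a bilinear family. -/
def Bilin.lift : tmod M N ⟶ P :=
  (tensorEquiv M N P).symm β.liftPre

theorem homEquiv_app (f : tmod M N ⟶ P) (U : X.Opens) (m : Γ(M, U)) (n : Γ(N, U)) :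
    (tensorEquiv M N P f).app (op U) (m ⊗ₜ[Γ(X, U)] n : Γ(M, U) ⊗[Γ(X, U)] Γ(N, U)) =
      f.app U (pairS M N m n) := by
  let adj := PresheafOfModules.sheafificationAdjunction (𝟙 (ModSite.ringSh X.sheaf).obj)
  have h' := congrArg (fun φ => φ.app (op U)) (adj.homEquiv_unit (f := f))
  exact ConcreteCategory.congr_hom h' (m ⊗ₜ[Γ(X, U)] n : Γ(M, U) ⊗[Γ(X, U)] Γ(N, U))

theorem Bilin.lift_pairS (U : X.Opens) (m : Γ(M, U)) (n : Γ(N, U)) :
    β.lift.app U (pairS M N m n) = β.b U m n := by
  rw [← homEquiv_app, Bilin.lift, Equiv.apply_symm_apply]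
  rfl

theorem tmod_hom_ext {f g : tmod M N ⟶ P}
    (h : ∀ (U : X.Opens) (m : Γ(M, U)) (n : Γ(N, U)), f.app U (pairS M N m n) = g.app U (pairS M N m n)) :
    f = g := by
  refine (tensorEquiv M N P).injective ?_
  ext U z
  change (tensorEquiv M N P f).app U z = (tensorEquiv M N P g).app U z
  obtain ⟨U⟩ := U
  revert z
  intro (z : Γ(M, U) ⊗[Γ(X, U)] Γ(N, U))
  induction z using TensorProduct.induction_on with
  | zero => exact (map_zero _).trans (map_zero _).symm
  | tmul m n => rw [homEquiv_app, homEquiv_app]; exact h U m n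
  | add a b ha hb => exact (map_add _ a b).trans ((congrArg₂ (· + ·) ha hb).trans (map_add _ a b).symm)

end Groth.Agent.LefEtaleLib
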