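import Groth.Agent.LefEtaleLib.SecMap
import Mathlib.AlgebraicGeometry.Normalization
import Mathlib.AlgebraicGeometry.Cover.Directed

/-!
# A multiplicative retraction of a direct image gives a section
-/

set_option autoImplicit false
set_option backward.isDefEq.respectTransparency false

universe u

open CategoryTheory AlgebraicGeometry TopologicalSpace

noncomputable section

namespace Groth.Agent.LefEtaleLib

variable {W X : Scheme.{u}} (π : W ⟶ X) [IsAffineHom π]

/-- A multiplicative unital `O`-linear map `π_* O_W ⟶ O_X` comes from a section of `π`. -/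
theorem exists_section_of_algHom
    (φ : (Scheme.Modules.pushforward π).obj (Coh.structureModule W) ⟶ Coh.structureModule X)
    (h1 : ∀ V : X.Opens, φ.app V (1 : Γ(W, π ⁻¹ᵁ V)) = (1 : Γ(X, V)))
    (hmul : ∀ (V : X.Opens) (a b : Γ(W, π ⁻¹ᵁ V)),
      φ.app V (a * b : Γ(W, π ⁻¹ᵁ V)) = (show Γ(X, V) from φ.app V a) * (show Γ(X, V) from φ.app V b)) :
    ∃ t : X ⟶ W, t ≫ π = 𝟙 X ∧ ∀ {T : Scheme.{u}} (g : T ⟶ X) (s : T ⟶ W) (h : s ≫ π = g),
      φ ≫ ClSub.unitToPush g = secMap s h → g ≫ t = s := by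
  let ψ : ∀ V : X.Opens, Γ(W, π ⁻¹ᵁ V) ⟶ Γ(X, V) := fun V => CommRingCat.ofHom
    { toFun := fun a => φ.app V a
      map_one' := h1 V
      map_mul' := hmul V
      map_zero' := map_zero (φ.app V).hom
      map_add' := map_add (φ.app V).hom }
  have hψ : ∀ V, π.app V ≫ ψ V = 𝟙 _ := fun V => by
    refine CommRingCat.hom_ext (RingHom.ext fun r => ?_)
    show φ.app V (π.app V r : Γ(W, π ⁻¹ᵁ V)) = r
    have h := Scheme.Modules.Hom.app_smul φ (U := V) r (1 : Γ(W, π ⁻¹ᵁ V))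
    rw [h1 V] at h
    refine Eq.trans (congrArg _ (mul_one _).symm) (h.trans ?_)
    exact mul_one r
  have hnat : ∀ {U V : X.Opens} (i : U ⟶ V), ψ V ≫ X.presheaf.map i.op =
      W.presheaf.map ((Opens.map π.base).map i).op ≫ ψ U := fun {U V} i => by
    refine CommRingCat.hom_ext (RingHom.ext fun a => ?_)
    exact (ConcreteCategory.congr_hom (φ.mapPresheaf.naturality i.op) a).symm
  let g : ∀ V : X.affineOpens, V.1.toScheme ⟶ W := fun V =>
    V.1.toSpecΓ ≫ Spec.map (ψ V.1) ≫ (V.2.preimage π).fromSpec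
  have hg : ∀ {U V : X.affineOpens} (h : U ⟶ V), X.homOfLE (leOfHom h) ≫ g V = g U := fun {U V} h => by
    simp only [g]
    rw [← Category.assoc, ← Scheme.Opens.toSpecΓ_SpecMap_presheaf_map U.1 V.1 (leOfHom h), Category.assoc,
      ← Spec.map_comp_assoc, hnat, Spec.map_comp_assoc]
    congr 2
    exact IsAffineOpen.map_fromSpec _ _ _
  have hgπ : ∀ V : X.affineOpens, g V ≫ π = V.1.ι := fun V => by
    simp only [g, Category.assoc]
    rw [← IsAffineOpen.SpecMap_appLE_fromSpec π V.2 (V.2.preimage π) le_rfl, ← Scheme.Hom.app_eq_appLE,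
      ← Spec.map_comp_assoc, hψ, Spec.map_id, Category.id_comp, IsAffineOpen.toSpecΓ_fromSpec]
  let t : X ⟶ W := X.directedAffineCover.glueMorphismsOfLocallyDirected g fun h => hg h
  have ht : ∀ V : X.affineOpens, V.1.ι ≫ t = g V := fun V =>
    Scheme.OpenCover.map_glueMorphismsOfLocallyDirected X.directedAffineCover g _ V
  refine ⟨t, Scheme.Cover.hom_ext X.directedAffineCover _ _ fun V => ?_, fun {T} f s hs hφ => ?_⟩
  · show V.1.ι ≫ t ≫ π = V.1.ι ≫ 𝟙 X
    rw [← Category.assoc, ht, hgπ]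
    exact (Category.comp_id _).symm
  · refine Scheme.Cover.hom_ext (T.openCoverOfIsOpenCover (fun V : X.affineOpens => f ⁻¹ᵁ V.1) ?_) _ _ fun V => ?_
    · refine IsOpenCover.mk (eq_top_iff.2 fun x _ => ?_)
      obtain ⟨_, ⟨V, hV, rfl⟩, hy, -⟩ :=
        X.isBasis_affineOpens.exists_subset_of_mem_open (Set.mem_univ (f x)) isOpen_univ
      exact Opens.mem_iSup.2 ⟨⟨V, hV⟩, hy⟩
    · show (f ⁻¹ᵁ V.1).ι ≫ f ≫ t = (f ⁻¹ᵁ V.1).ι ≫ s
      have hle : f ⁻¹ᵁ V.1 ≤ s ⁻¹ᵁ π ⁻¹ᵁ V.1 := by subst hs; exact le_rfl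
      have key : ψ V.1 ≫ f.app V.1 = s.appLE (π ⁻¹ᵁ V.1) (f ⁻¹ᵁ V.1) hle := by
        refine CommRingCat.hom_ext (RingHom.ext fun b => ?_)
        have h2 := ConcreteCategory.congr_hom (congrArg (fun m => Scheme.Modules.Hom.app m V.1) hφ) b
        exact h2.trans (secMap_app s hs V.1 b)
      rw [← Category.assoc, ← morphismRestrict_ι, Category.assoc, ht]
      simp only [g]
      rw [← Category.assoc, ← Scheme.Opens.toSpecΓ_naturality, Category.assoc, ← Spec.map_comp_assoc, key,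
        ← Category.assoc, Scheme.Opens.toSpecΓ_SpecMap_appLE, Category.assoc, IsAffineOpen.toSpecΓ_fromSpec,
        Scheme.Hom.resLE_comp_ι]

end Groth.Agent.LefEtaleLib
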