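import Groth.Agent.LefEtaleLib.Tensor

/-!
# The two bilinear maps measuring multiplicativity of a map `π_* O_W ⟶ O_X`
-/

set_option autoImplicit false
set_option backward.isDefEq.respectTransparency false
set_option linter.style.haveILetI false

universe u

open CategoryTheory AlgebraicGeometry TopologicalSpace Opposite

noncomputable section

namespace Groth.Agent.LefEtaleLib

variable {W X : Scheme.{u}} (π : W ⟶ X)

/-- The direct image of the structure sheaf. -/
abbrev pushO : X.Modules := (Scheme.Modules.pushforward π).obj (Coh.structureModule W)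

/-- The product of two sections of the direct image. -/
def mulA (U : X.Opens) (a b : Γ(pushO π, U)) : Γ(pushO π, U) :=
  (show Γ(W, π ⁻¹ᵁ U) from a) * (show Γ(W, π ⁻¹ᵁ U) from b)

theorem mulA_add_left (U : X.Opens) (a a' b : Γ(pushO π, U)) :
    mulA π U (a + a') b = mulA π U a b + mulA π U a' b :=
  add_mul (R := Γ(W, π ⁻¹ᵁ U)) a a' b

theorem mulA_add_right (U : X.Opens) (a b b' : Γ(pushO π, U)) :
    mulA π U a (b + b') = mulA π U a b + mulA π U a b' :=
  mul_add (R := Γ(W, π ⁻¹ᵁ U)) a b b'

theorem mulA_smul_left (U : X.Opens) (r : Γ(X, U)) (a b : Γ(pushO π, U)) :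
    mulA π U (r • a) b = r • mulA π U a b :=
  mul_assoc (show Γ(W, π ⁻¹ᵁ U) from π.app U r) (show Γ(W, π ⁻¹ᵁ U) from a) (show Γ(W, π ⁻¹ᵁ U) from b)

theorem mulA_smul_right (U : X.Opens) (r : Γ(X, U)) (a b : Γ(pushO π, U)) :
    mulA π U a (r • b) = r • mulA π U a b :=
  mul_left_comm (show Γ(W, π ⁻¹ᵁ U) from a) (show Γ(W, π ⁻¹ᵁ U) from π.app U r) (show Γ(W, π ⁻¹ᵁ U) from b)

theorem mulA_res {U V : X.Opens} (i : V ⟶ U) (a b : Γ(pushO π, U)) :
    mulA π V ((pushO π).presheaf.map i.op a) ((pushO π).presheaf.map i.op b) =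
      (pushO π).presheaf.map i.op (mulA π U a b) :=
  (map_mul (W.presheaf.map ((Opens.map π.base).map i).op).hom (show Γ(W, π ⁻¹ᵁ U) from a) (show Γ(W, π ⁻¹ᵁ U) from b)).symm

variable {π}

/-- `(a, b) ↦ φ (a b)`. -/
def mulBilin (φ : pushO π ⟶ Coh.structureModule X) : Bilin (pushO π) (pushO π) (Coh.structureModule X) where
  b U := AddMonoidHom.mk' (fun a => AddMonoidHom.mk' (fun b => φ.app U (mulA π U a b))
      fun b b' => (congrArg _ (mulA_add_right π U a b b')).trans (map_add _ _ _))
    fun a a' => AddMonoidHom.ext fun b => (congrArg (φ.app U) (mulA_add_left π U a a' b)).trans (map_add (φ.app U).hom _ _)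
  smul_left U r a b := (congrArg _ (mulA_smul_left π U r a b)).trans (Scheme.Modules.Hom.app_smul φ r _)
  smul_right U r a b := (congrArg _ (mulA_smul_right π U r a b)).trans (Scheme.Modules.Hom.app_smul φ r _)
  res {U V} i a b := (congrArg _ (mulA_res π i a b)).trans
    (ConcreteCategory.congr_hom (φ.mapPresheaf.naturality i.op) _)

/-- The product of two sections of the structure module. -/
def mulO (U : X.Opens) (a b : Γ(Coh.structureModule X, U)) : Γ(Coh.structureModule X, U) :=
  (show Γ(X, U) from a) * (show Γ(X, U) from b)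

/-- `(a, b) ↦ φ a φ b`. -/
def prodBilin (φ : pushO π ⟶ Coh.structureModule X) : Bilin (pushO π) (pushO π) (Coh.structureModule X) where
  b U := AddMonoidHom.mk' (fun a => AddMonoidHom.mk' (fun b => mulO U (φ.app U a) (φ.app U b))
      fun b b' => (congrArg (mulO U (φ.app U a)) (map_add _ b b')).trans (mul_add (R := Γ(X, U)) _ _ _))
    fun a a' => AddMonoidHom.ext fun b =>
      (congrArg (fun z => mulO U z (φ.app U b)) (map_add _ a a')).trans (add_mul (R := Γ(X, U)) _ _ _)
  smul_left U r a b := (congrArg (fun z => mulO U z (φ.app U b)) (Scheme.Modules.Hom.app_smul φ r a)).trans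
    (mul_assoc (show Γ(X, U) from r) _ _)
  smul_right U r a b := (congrArg (mulO U (φ.app U a)) (Scheme.Modules.Hom.app_smul φ r b)).trans
    (mul_left_comm _ (show Γ(X, U) from r) _)
  res {U V} i a b := (congrArg₂ (mulO V)
      (ConcreteCategory.congr_hom (φ.mapPresheaf.naturality i.op) a)
      (ConcreteCategory.congr_hom (φ.mapPresheaf.naturality i.op) b)).trans
    (map_mul (X.presheaf.map i.op).hom _ _).symm

theorem mulBilin_apply (φ : pushO π ⟶ Coh.structureModule X) (U : X.Opens) (a b : Γ(pushO π, U)) :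
    (mulBilin φ).b U a b = φ.app U (mulA π U a b) := rfl

theorem prodBilin_apply (φ : pushO π ⟶ Coh.structureModule X) (U : X.Opens) (a b : Γ(pushO π, U)) :
    (prodBilin φ).b U a b = mulO U (φ.app U a) (φ.app U b) := rfl

end Groth.Agent.LefEtaleLib
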