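import Groth.Agent.LefEtaleLib.SecMap
import Groth.Agent.AmpleLib.Pullback
import Groth.Prelude.Def_FSch3

/-!
# Completed morphisms into the structure sheaf as formal families
-/

set_option autoImplicit false
set_option backward.isDefEq.respectTransparency false
set_option linter.style.haveILetI false
set_option maxHeartbeats 400000

universe u

open CategoryTheory CategoryTheory.Limits AlgebraicGeometry
open Scheme.Modules (pullbackPushforwardAdjunction pullbackComp pushforwardComp)

noncomputable section

namespace Groth.Agent.LefEtaleLib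

variable {T T' X : Scheme.{u}}

theorem homEquiv_pullbackComp_inv (k : T ⟶ T') (g : T' ⟶ X) {M : X.Modules} {P : T.Modules}
    (x : (Scheme.Modules.pullback k).obj ((Scheme.Modules.pullback g).obj M) ⟶ P) :
    (pullbackPushforwardAdjunction (k ≫ g)).homEquiv _ _ ((pullbackComp k g).inv.app M ≫ x) =
      (pullbackPushforwardAdjunction g).homEquiv _ _ ((pullbackPushforwardAdjunction k).homEquiv _ _ x) ≫
        (pushforwardComp k g).hom.app P := by
  have h := unit_conjugateEquiv ((pullbackPushforwardAdjunction g).comp (pullbackPushforwardAdjunction k))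
    (pullbackPushforwardAdjunction (k ≫ g)) (pullbackComp k g).inv M
  rw [Scheme.Modules.conjugateEquiv_pullbackComp_inv] at h
  simp only [Adjunction.homEquiv_unit, Functor.map_comp, Category.assoc]
  have hn : (Scheme.Modules.pushforward g).map ((Scheme.Modules.pushforward k).map x) ≫
      (pushforwardComp k g).hom.app P =
        (pushforwardComp k g).hom.app _ ≫ (Scheme.Modules.pushforward (k ≫ g)).map x :=
    (pushforwardComp k g).hom.naturality x
  rw [hn, ← reassoc_of% h, Adjunction.comp_unit_app, Category.assoc]

theorem homEquiv_pullO (g : T ⟶ X) :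
    (pullbackPushforwardAdjunction g).homEquiv _ _ (AmpleLib.pullO g).hom = ClSub.unitToPush g := by
  refine ((Equiv.eq_symm_apply _).1 ?_)
  rfl

theorem homEquiv_pullbackO {g : T ⟶ X} {M : X.Modules} (a : (Scheme.Modules.pullback g).obj M ⟶ Coh.structureModule T)
    (φ : M ⟶ Coh.structureModule X) (h : a = (Scheme.Modules.pullback g).map φ ≫ (AmpleLib.pullO g).hom) :
    (pullbackPushforwardAdjunction g).homEquiv _ _ a = φ ≫ ClSub.unitToPush g := by
  subst h
  rw [Adjunction.homEquiv_naturality_left, homEquiv_pullO]

theorem homEquiv_map_secMap (k : T ⟶ T') {g' : T' ⟶ X} {g : T ⟶ X} (h : k ≫ g' = g) {M : X.Modules}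
    (a : (Scheme.Modules.pullback g').obj M ⟶ Coh.structureModule T') :
    (pullbackPushforwardAdjunction g).homEquiv _ _
        ((pullbackComp k g' ≪≫ Scheme.Modules.pullbackCongr h).inv.app M ≫
          (Scheme.Modules.pullback k).map a ≫ (AmpleLib.pullO k).hom) =
      (pullbackPushforwardAdjunction g').homEquiv _ _ a ≫ secMap k h := by
  subst h
  simp only [Scheme.Modules.pullbackCongr, eqToIso_refl, Iso.trans_refl]
  rw [homEquiv_pullbackComp_inv, Adjunction.homEquiv_naturality_left (pullbackPushforwardAdjunction k) a,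
    homEquiv_pullO, Adjunction.homEquiv_naturality_right]
  have : secMap k (rfl : k ≫ g' = k ≫ g') =
      (Scheme.Modules.pushforward g').map (ClSub.unitToPush k) ≫ (pushforwardComp k g').hom.app _ := by
    refine Scheme.Modules.hom_ext _ _ fun V => AddCommGrpCat.hom_ext (AddMonoidHom.ext fun b => ?_)
    exact secMap_app_self k V b
  rw [this, Category.assoc]

theorem pullbackComp_pullO (k : T ⟶ T') {g' : T' ⟶ X} {g : T ⟶ X} (h : k ≫ g' = g) :
    (pullbackComp k g' ≪≫ Scheme.Modules.pullbackCongr h).hom.app (Coh.structureModule X) ≫ (AmpleLib.pullO g).hom =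
      (Scheme.Modules.pullback k).map (AmpleLib.pullO g').hom ≫ (AmpleLib.pullO k).hom := by
  rw [← cancel_epi ((pullbackComp k g' ≪≫ Scheme.Modules.pullbackCongr h).inv.app (Coh.structureModule X)),
    Iso.inv_hom_id_app_assoc]
  apply ((pullbackPushforwardAdjunction g).homEquiv _ _).injective
  rw [homEquiv_map_secMap k h, homEquiv_pullO, homEquiv_pullO, unitToPush_secMap]

theorem comm_of_secMap (k : T ⟶ T') {g' : T' ⟶ X} {g : T ⟶ X} (h : k ≫ g' = g) {M : X.Modules}
    (y' : M ⟶ (Scheme.Modules.pushforward g').obj (Coh.structureModule T'))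
    (y : M ⟶ (Scheme.Modules.pushforward g).obj (Coh.structureModule T)) (hy : y' ≫ secMap k h = y) :
    (Scheme.Modules.pullback k).map (((pullbackPushforwardAdjunction g').homEquiv _ _).symm y' ≫ (AmpleLib.pullO g').inv) ≫
        (pullbackComp k g' ≪≫ Scheme.Modules.pullbackCongr h).hom.app (Coh.structureModule X) =
      (pullbackComp k g' ≪≫ Scheme.Modules.pullbackCongr h).hom.app M ≫
        ((pullbackPushforwardAdjunction g).homEquiv _ _).symm y ≫ (AmpleLib.pullO g).inv := by
  rw [← cancel_mono (AmpleLib.pullO g).hom,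
    ← cancel_epi ((pullbackComp k g' ≪≫ Scheme.Modules.pullbackCongr h).inv.app M)]
  simp only [Category.assoc, Iso.inv_hom_id, Category.comp_id, Iso.inv_hom_id_app_assoc]
  rw [pullbackComp_pullO, ← Functor.map_comp_assoc, Category.assoc, Iso.inv_hom_id, Category.comp_id]
  apply ((pullbackPushforwardAdjunction g).homEquiv _ _).injective
  rw [homEquiv_map_secMap, Equiv.apply_symm_apply, Equiv.apply_symm_apply, hy]

variable (I : X.IdealSheafData)

/-- Full faithfulness of completion gives the formal bijection. -/
theorem homToFormalBijective_of_completion {D : X.Modules}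
    (h : Function.Bijective (fun φ : D ⟶ Coh.structureModule X => FSch.complModMap I φ)) :
    Lef.HomToFormalBijective I D := by
  let adj := fun n => pullbackPushforwardAdjunction (FSch.completionToX X I n)
  have hψ : ∀ (φ : D ⟶ Coh.structureModule X) (n : ℕ), (adj n).homEquiv _ _
      ((Scheme.Modules.pullback (FSch.completionToX X I n)).map φ ≫ (AmpleLib.pullO _).hom) =
        φ ≫ ClSub.toSubscheme (I ^ (n + 1)) := fun φ n => homEquiv_pullbackO _ φ rfl
  refine ⟨fun φ φ' hφ => h.1 (FSch.ModSys.Hom.ext (funext fun n => ?_)), fun y hy => ?_⟩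
  · rw [FSch.complModMap_app, FSch.complModMap_app, ← cancel_mono (AmpleLib.pullO _).hom]
    refine ((adj n).homEquiv _ _).injective ?_
    rw [hψ, hψ, hφ n]
  · let z : ∀ n, D ⟶ (Scheme.Modules.pushforward (FSch.completionToX X I n)).obj
        (Coh.structureModule ((FSch.completionAlong X I).X n)) := y
    let a : FSch.complMod I D ⟶ FSch.complMod I (Coh.structureModule X) :=
      ⟨fun n => ((pullbackPushforwardAdjunction (FSch.completionToX X I n)).homEquiv _ _).symm (z n) ≫
          (AmpleLib.pullO (FSch.completionToX X I n)).inv, fun n =>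
        by
        have hi : (FSch.completionAlong X I).ι n ≫ FSch.completionToX X I (n + 1) = FSch.completionToX X I n :=
          Scheme.IdealSheafData.inclusion_subschemeι _
        have h1 : z (n + 1) ≫ secMap ((FSch.completionAlong X I).ι n) hi = z n := hy n
        have hc := comm_of_secMap ((FSch.completionAlong X I).ι n) hi (z (n + 1)) (z n) h1
        rw [FSch.complMod_e, FSch.complMod_e, Iso.app_hom, Iso.app_hom,
          show FSch.complTransIso I n = pullbackComp ((FSch.completionAlong X I).ι n)
            (FSch.completionToX X I (n + 1)) ≪≫ Scheme.Modules.pullbackCongr hi from rfl]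
        exact hc⟩
    obtain ⟨φ, hφ⟩ := h.2 a
    refine ⟨φ, fun n => ?_⟩
    have hn := congrArg (fun b => FSch.ModSys.Hom.app b n) hφ
    rw [← hψ φ n, ← FSch.complModMap_app I φ n, hn]
    show (adj n).homEquiv _ _ ((((adj n).homEquiv _ _).symm (z n) ≫ (AmpleLib.pullO _).inv) ≫ _) = _
    rw [Category.assoc, Iso.inv_hom_id, Category.comp_id]
    exact Equiv.apply_symm_apply _ _

end Groth.Agent.LefEtaleLib
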