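import Groth.Agent.FEtLib.Clopens
import Groth.Agent.FEtLib.HomBase

/-!
# Sections of finite étale covers extend uniquely along surjective closed immersions
-/

set_option autoImplicit false
set_option linter.style.haveILetI false

universe u

open CategoryTheory CategoryTheory.Limits AlgebraicGeometry

noncomputable section

namespace Groth.Agent.LefEtaleLib

variable {X Y T : Scheme.{u}}

theorem eq_of_surjective (i : Y ⟶ T) [Surjective i] (W : FEt.Cat X) (a b : T ⟶ W.left)
    (h : a ≫ W.hom = b ≫ W.hom) (he : i ≫ a = i ≫ b) : a = b := by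
  let π : W.left ⟶ X := W.hom
  haveI : IsFinite π := W.prop.1
  haveI : Etale π := W.prop.2
  let p := pullback.lift (f := π) (g := π) a b h
  have hr : Set.range p ⊆ Set.range (pullback.diagonal π) := by
    rintro _ ⟨z, rfl⟩
    obtain ⟨y, rfl⟩ := i.surjective z
    refine ⟨(i ≫ a) y, ?_⟩
    rw [← Scheme.Hom.comp_apply, ← Scheme.Hom.comp_apply]
    refine congrArg (fun f : Y ⟶ _ => f y) ?_
    apply pullback.hom_ext
    · rw [Category.assoc, Category.assoc, Category.assoc, pullback.diagonal_fst, Category.comp_id]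
      exact congrArg (i ≫ ·) (pullback.lift_fst (f := π) (g := π) a b h).symm
    · rw [Category.assoc, Category.assoc, Category.assoc, pullback.diagonal_snd, Category.comp_id]
      exact he.trans (congrArg (i ≫ ·) (pullback.lift_snd (f := π) (g := π) a b h).symm)
  let l := IsOpenImmersion.lift (pullback.diagonal π) p hr
  have hl : l ≫ pullback.diagonal π = p := IsOpenImmersion.lift_fac _ _ _
  have h1 := congrArg (· ≫ pullback.fst π π) hl
  have h2 := congrArg (· ≫ pullback.snd π π) hl
  simp only [p, Category.assoc, pullback.diagonal_fst, pullback.diagonal_snd, Category.comp_id, pullback.lift_fst,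
    pullback.lift_snd] at h1 h2
  exact h1.symm.trans h2

theorem exists_lift_section (W : FEt.Cat X) (g : T ⟶ X) (i : Y ⟶ T) [IsClosedImmersion i] [Surjective i]
    (s : Y ⟶ W.left) (hs : s ≫ W.hom = i ≫ g) : ∃ a : T ⟶ W.left, a ≫ W.hom = g ∧ i ≫ a = s := by
  haveI : (FEt.restrict i).Full := FEtLib.full i (FEtLib.meetsClopens_of_denseRange i i.surjective.denseRange)
    (FEtLib.clopensDescend_of_univHomeo i)
  let WT : FEt.Cat T := (FEt.restrict g).obj W
  let σ : Y ⟶ WT.left := pullback.lift s i hs
  have hσ : σ ≫ WT.hom = i := pullback.lift_snd _ _ _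
  obtain ⟨τ, hτ⟩ := (FEt.restrict i).map_surjective (X := FEtLib.one T) (Y := WT)
    (FEtLib.toOne _ ≫ FEtLib.sectionEquiv i WT ⟨σ, hσ⟩)
  let l : T ⟶ WT.left := τ.left
  have hl : l ≫ WT.hom = 𝟙 T := MorphismProperty.Over.w τ
  refine ⟨l ≫ pullback.fst W.hom g, ?_, ?_⟩
  · exact ((Category.assoc _ _ _).trans (congrArg (l ≫ ·) pullback.condition)).trans
      ((Category.assoc _ _ _).symm.trans ((congrArg (· ≫ g) hl).trans (Category.id_comp g)))
  · have h1 := congrArg (fun f => (FEtLib.oneToRestrict i ≫ f).left ≫ pullback.fst WT.hom i) hτ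
    rw [← Category.assoc (FEtLib.oneToRestrict i), show FEtLib.oneToRestrict i ≫ FEtLib.toOne _ = 𝟙 _ from
      (FEtLib.toOne_unique _).trans (FEtLib.toOne_unique _).symm, Category.id_comp] at h1
    have h2 : i ≫ l = σ := by
      refine Eq.trans ?_ (h1.trans (pullback.lift_fst _ _ _))
      refine (((Category.assoc _ _ _).trans ((congrArg ((FEtLib.oneToRestrict i).left ≫ ·)
        (pullback.lift_fst _ _ _)).trans (Category.assoc _ _ _).symm)).trans
          (congrArg (· ≫ l) (?_ : (FEtLib.oneToRestrict i).left ≫ pullback.fst (FEtLib.one T).hom i = i))).symm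
      exact pullback.lift_fst _ _ _
    exact (Category.assoc _ _ _).symm.trans ((congrArg (· ≫ pullback.fst W.hom g) h2).trans (pullback.lift_fst _ _ _))

end Groth.Agent.LefEtaleLib
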