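import Groth.Agent.LefEtaleLib.Bilinear
import Groth.Agent.LefEtaleLib.Algebra
import Groth.Agent.LefEtaleLib.Thick
import Groth.Agent.LefAmpleLib.QuotMap
import Groth.Agent.FinLocFreeLib.Basic
import Groth.Agent.DCohLib.TensorPerf
import Groth.Agent.BCLib.SteinFlat
import Groth.Agent.S2946
import Groth.Agent.AmpleLib.GenLocus

/-!
# The Lefschetz bijection makes restriction of finite étale covers fully faithful
-/

set_option autoImplicit false
set_option backward.isDefEq.respectTransparency false
set_option linter.style.haveILetI false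
set_option maxHeartbeats 800000

universe u

open CategoryTheory CategoryTheory.Limits AlgebraicGeometry TopologicalSpace

noncomputable section

namespace Groth.Agent.LefEtaleLib

variable {X : Scheme.{u}} (I : X.IdealSheafData)

theorem pow_succ_le_self (n : ℕ) : I ^ (n + 1) ≤ I := by
  rw [pow_succ]
  exact mul_le_of_le_one_left' le_top

/-- The inclusion of the closed subscheme into a thickening. -/
abbrev incl (n : ℕ) : I.subscheme ⟶ (I ^ (n + 1)).subscheme :=
  Scheme.IdealSheafData.inclusion (pow_succ_le_self I n)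

theorem incl_ι (n : ℕ) : incl I n ≫ (I ^ (n + 1)).subschemeι = I.subschemeι :=
  Scheme.IdealSheafData.inclusion_subschemeι _

instance surjective_incl (n : ℕ) : Surjective (incl I n) := ⟨fun z => by
  have hz : (I ^ (n + 1)).subschemeι z ∈ Set.range I.subschemeι := by
    rw [Scheme.IdealSheafData.range_subschemeι, ← Scheme.IdealSheafData.support_pow_succ I n,
      ← Scheme.IdealSheafData.range_subschemeι]
    exact ⟨z, rfl⟩
  obtain ⟨y, hy⟩ := hz
  refine ⟨y, (I ^ (n + 1)).subschemeι.isClosedEmbedding.injective ?_⟩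
  rw [← Scheme.Hom.comp_apply, incl_ι, hy]⟩

theorem isClosedImmersion_incl (n : ℕ) : IsClosedImmersion (incl I n) := by
  haveI : IsClosedImmersion (incl I n ≫ (I ^ (n + 1)).subschemeι) := (incl_ι I n).symm ▸ inferInstance
  exact IsClosedImmersion.of_comp (incl I n) (I ^ (n + 1)).subschemeι

theorem inclusion_subschemeι' {J K : X.IdealSheafData} (h : J ≤ K) :
    Scheme.IdealSheafData.inclusion h ≫ J.subschemeι = K.subschemeι :=
  Scheme.IdealSheafData.inclusion_subschemeι h

theorem inclusion_comp {J K L : X.IdealSheafData} (h : J ≤ K) (h' : K ≤ L) :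
    Scheme.IdealSheafData.inclusion h' ≫ Scheme.IdealSheafData.inclusion h =
      Scheme.IdealSheafData.inclusion (h.trans h') := by
  rw [← cancel_mono J.subschemeι, Category.assoc, inclusion_subschemeι', inclusion_subschemeι', inclusion_subschemeι']

theorem incl_comp (n : ℕ) :
    incl I n ≫ Scheme.IdealSheafData.inclusion (Lef.pow_succ_le I n) = incl I (n + 1) :=
  inclusion_comp _ _

theorem meetsClopens (h : Lef.HomToFormalBijective I (Coh.structureModule X)) :
    FEtLib.MeetsClopens I.subschemeι := fun U hU ⟨x, hx⟩ => by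
  by_contra hc
  obtain ⟨e, he, hbe⟩ := S2946.exists_idem hU
  have h0 : ∀ n, (I ^ (n + 1)).subschemeι.app ⊤ e = 0 := fun n => by
    refine S2946.idem_ext (he.map ((I ^ (n + 1)).subschemeι.app ⊤).hom) IsIdempotentElem.zero ?_
    refine (congrArg SetLike.coe (Scheme.preimage_basicOpen (I ^ (n + 1)).subschemeι e)).symm.trans
      (Eq.trans ?_ (congrArg SetLike.coe (Scheme.basicOpen_zero _ _)).symm)
    refine Set.eq_empty_of_forall_notMem fun z hz => hc ?_
    obtain ⟨y, rfl⟩ := (incl I n).surjective z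
    refine ⟨y, ?_⟩
    have hz' : (I ^ (n + 1)).subschemeι (incl I n y) ∈ U := hbe ▸ hz
    rwa [← Scheme.Hom.comp_apply, incl_ι] at hz'
  have he0 : DCohLib.secHom (Coh.structureModule X) e = 0 := h.1 _ _ fun n => by
    rw [zero_comp]
    refine DCohLib.hom_unit_ext ?_
    show (I ^ (n + 1)).subschemeι.app ⊤ (AmpleLib.sec (DCohLib.secHom (Coh.structureModule X) e)) = 0
    rw [AmpleLib.sec_secHom, h0]
  have : e = 0 := (AmpleLib.sec_secHom (L := Coh.structureModule X) e).symm.trans (congrArg AmpleLib.sec he0)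
  rw [this, Scheme.basicOpen_zero] at hbe
  exact (show x ∈ ((⊥ : X.Opens) : Set X) from hbe ▸ hx)

theorem sections_extend (hP : ∀ D : X.Modules, FlatMod.IsFinLocFree D → Lef.HomToFormalBijective I D)
    (W : FEt.Cat X) (s : I.subscheme ⟶ W.left) (hs : s ≫ W.hom = I.subschemeι) :
    ∃ t : X ⟶ W.left, t ≫ W.hom = 𝟙 X ∧ I.subschemeι ≫ t = s := by
  let π : W.left ⟶ X := W.hom
  haveI : IsFinite π := W.prop.1
  haveI : Etale π := W.prop.2
  let A := (Scheme.Modules.pushforward π).obj (Coh.structureModule W.left)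
  have hA : FlatMod.IsFinLocFree A :=
    FinLocFreeLib.isFinLocFree_push π ⟨inferInstance, inferInstance, inferInstance⟩
  have hex : ∀ n, ∃ a : (I ^ (n + 1)).subscheme ⟶ W.left, a ≫ π = (I ^ (n + 1)).subschemeι ∧ incl I n ≫ a = s :=
    fun n =>
      haveI := isClosedImmersion_incl I n
      exists_lift_section W _ (incl I n) s (by rw [incl_ι]; exact hs)
  choose sn hsn hsn' using hex
  have hcompat : ∀ n, Scheme.IdealSheafData.inclusion (Lef.pow_succ_le I n) ≫ sn (n + 1) = sn n := fun n => by
    refine eq_of_surjective (incl I n) W _ _ ?_ ?_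
    · show (_ ≫ sn (n + 1)) ≫ π = sn n ≫ π
      rw [Category.assoc, hsn, hsn, Scheme.IdealSheafData.inclusion_subschemeι]
    · rw [hsn', ← Category.assoc]
      exact (congrArg (· ≫ sn (n + 1)) (incl_comp I n)).trans (hsn' (n + 1))
  let y : ∀ n, A ⟶ ClSub.quotMod (I ^ (n + 1)) := fun n => secMap (sn n) (hsn n)
  obtain ⟨φ, hφ⟩ := (hP A hA).2 y fun n => by
    show secMap (sn (n + 1)) (hsn (n + 1)) ≫ Lef.quotMap _ = secMap (sn n) (hsn n)
    rw [quotMap_eq_secMap, secMap_comp]
    exact secMap_congr (hcompat n) _ _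
  have hone : ClSub.unitToPush π ≫ φ = 𝟙 _ :=
    (hP _ (BCLib.isFinLocFree_structureModule X)).1 _ _ fun n => by
      rw [Category.assoc, hφ n, Category.id_comp]
      exact unitToPush_secMap (sn n) (hsn n)
  have h1 : ∀ V : X.Opens, φ.app V (1 : Γ(W.left, π ⁻¹ᵁ V)) = (1 : Γ(X, V)) := fun V => by
    have := ConcreteCategory.congr_hom (congrArg (fun m => Scheme.Modules.Hom.app m V) hone) (1 : Γ(X, V))
    refine Eq.trans ?_ this
    exact congrArg (φ.app V) (map_one (π.app V).hom).symm
  have hπφ : ∀ (n : ℕ) (V : X.Opens) (b : Γ(W.left, π ⁻¹ᵁ V)),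
      (I ^ (n + 1)).subschemeι.app V (φ.app V b) = (y n).app V b := fun n V b =>
    ConcreteCategory.congr_hom (congrArg (fun m => Scheme.Modules.Hom.app m V) (hφ n)) b
  have hβ : (mulBilin φ).lift = (prodBilin φ).lift := (hP _ (DCohLib.isFinLocFree_tensor hA hA)).1 _ _ fun n => by
    refine tmod_hom_ext fun U a b => ?_
    show (I ^ (n + 1)).subschemeι.app U ((mulBilin φ).lift.app U _) =
      (I ^ (n + 1)).subschemeι.app U ((prodBilin φ).lift.app U _)
    rw [Bilin.lift_pairS, Bilin.lift_pairS, mulBilin_apply, prodBilin_apply]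
    refine Eq.trans (hπφ n U _) (Eq.trans ?_ (map_mul ((I ^ (n + 1)).subschemeι.app U).hom _ _).symm)
    refine Eq.trans ?_ (congrArg₂ (fun z w : Γ((I ^ (n + 1)).subscheme, (I ^ (n + 1)).subschemeι ⁻¹ᵁ U) => z * w)
      (hπφ n U a) (hπφ n U b)).symm
    simp only [y]
    rw [secMap_app, secMap_app, secMap_app]
    exact (congrArg _ (map_mul ((sn n).app (π ⁻¹ᵁ U)).hom _ _)).trans (map_mul _ _ _)
  have hmul : ∀ (V : X.Opens) (a b : Γ(W.left, π ⁻¹ᵁ V)),
      φ.app V (a * b : Γ(W.left, π ⁻¹ᵁ V)) = (show Γ(X, V) from φ.app V a) * (show Γ(X, V) from φ.app V b) :=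
    fun V a b => by
      have := ConcreteCategory.congr_hom (congrArg (fun m => Scheme.Modules.Hom.app m V) hβ)
        (DCohLib.pairS (M := pushO π) (N := pushO π) a b)
      exact (((mulBilin φ).lift_pairS V a b).symm.trans this).trans ((prodBilin φ).lift_pairS V a b)
  obtain ⟨t, ht, htu⟩ := exists_section_of_algHom π φ h1 hmul
  refine ⟨t, ht, ?_⟩
  have h0 := htu (I ^ (0 + 1)).subschemeι (sn 0) (hsn 0) (hφ 0)
  rw [← incl_ι I 0, Category.assoc, h0, hsn']

/-- The Lefschetz bijection for all locally free modules makes restriction fully faithful. -/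
theorem fullyFaithful_restrict (hP : ∀ D : X.Modules, FlatMod.IsFinLocFree D → Lef.HomToFormalBijective I D) :
    (FEt.restrict I.subschemeι).Full ∧ (FEt.restrict I.subschemeι).Faithful :=
  ⟨FEtLib.full_of_sections _ fun W s hs => sections_extend I hP W s hs,
    FEtLib.faithful _ (meetsClopens I (hP _ (BCLib.isFinLocFree_structureModule X)))⟩

end Groth.Agent.LefEtaleLib
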