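import Groth.Agent.AmpleEmb.Generated
import Groth.Agent.AmpleLib.ExtendMod
import Groth.Agent.CMRegLib.Family
import Groth.Agent.QCohLib.Coherent
import Groth.Agent.DCohLib.Restrict
import Groth.Agent.S4373
import Groth.Agent.ProjBundleLib.AffineVA
import Groth.Prelude.Def_Lef

/-!
# Formal families of maps out of coherent modules on quasi-affine schemes
-/

set_option autoImplicit false
set_option backward.isDefEq.respectTransparency false
set_option linter.style.haveILetI false

universe u

open CategoryTheory CategoryTheory.Limits AlgebraicGeometry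

noncomputable section

namespace Groth.Agent.LefEtaleLib

variable {X : Scheme.{u}} [AlgebraicGeometry.IsNoetherian X] [X.IsQuasiAffine]

omit [AlgebraicGeometry.IsNoetherian X] in
/-- On a quasi-affine scheme coherent modules are quotients of finite free modules. -/
theorem exists_epi_free_quasiAffine {M : X.Modules} (hM : Coh.IsCoh M) :
    ∃ (N : ℕ) (p : FlatMod.freeMod X N ⟶ M), Epi p := by
  obtain ⟨E, hE⟩ := AmpleEmb.eventually_isGloballyGenerated
    (S4373.result X (Coh.structureModule X) (ProjBundleLib.isInvertible_structureModule X)) hM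
  exact CMRegLib.exists_epi_free_qcoh hM.1 hM.2 (AmpleLib.isGloballyGenerated_of_iso
    (AmpleLib.tIso (Iso.refl M) (AmpleLib.powUnit E) ≪≫ AmpleLib.unitR M) (hE E le_rfl))

variable {I : X.IdealSheafData} (h : Lef.HomToFormalBijective I (Coh.structureModule X))

include h in
theorem eq_zero_of_formal {M : X.Modules} (hM : Coh.IsCoh M) (φ : M ⟶ Coh.structureModule X)
    (hφ : ∀ n : ℕ, φ ≫ ClSub.toSubscheme (I ^ (n + 1)) = 0) : φ = 0 := by
  obtain ⟨N, π, hπ⟩ := exists_epi_free_quasiAffine hM
  rw [← cancel_epi π, comp_zero]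
  refine Sigma.hom_ext _ _ fun i => ?_
  rw [comp_zero]
  refine h.1 _ _ fun n => ?_
  simp [hφ n]

include h in
/-- On a quasi-affine scheme the bijection for functions gives it for every coherent module. -/
theorem homToFormalBijective_quasiAffine {M : X.Modules} (hM : Coh.IsCoh M) : Lef.HomToFormalBijective I M := by
  refine ⟨fun φ ψ e => sub_eq_zero.1 (eq_zero_of_formal h hM (φ - ψ) fun n => by
    rw [Preadditive.sub_comp, e n, sub_self]), fun y hy => ?_⟩
  obtain ⟨N, π, hπ⟩ := exists_epi_free_quasiAffine hM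
  haveI := hπ
  choose g hg using fun i => h.2 (fun n => Sigma.ι (fun _ : Fin N => Coh.structureModule X) i ≫ π ≫ y n)
    (fun n => by simp only [Category.assoc, hy n])
  let φ₀ : FlatMod.freeMod X N ⟶ Coh.structureModule X := Sigma.desc g
  have hall : ∀ n : ℕ, φ₀ ≫ ClSub.toSubscheme (I ^ (n + 1)) = π ≫ y n := fun n =>
    Sigma.hom_ext _ _ fun i => (Sigma.ι_desc_assoc _ _ _).trans (hg i n)
  have hF : Coh.IsCoh (FlatMod.freeMod X N) := CurveLib.isCoh_of_isFinLocFree (DCohLib.isFinLocFree_freeMod N)
  have hK : kernel.ι π ≫ φ₀ = 0 := eq_zero_of_formal h (QCohLib.isCoh_kernel_cokernel π hF hM).1 _ fun n => by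
    rw [Category.assoc, hall n, kernel.condition_assoc, zero_comp]
  refine ⟨Abelian.epiDesc π φ₀ hK, fun n => ?_⟩
  rw [← cancel_epi π, ← Category.assoc, Abelian.comp_epiDesc, hall n]

end Groth.Agent.LefEtaleLib
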