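import Groth.Agent.LefAmpleLib.QuotMap

/-!
# Maps of direct images of structure sheaves given by morphisms over the base
-/

set_option autoImplicit false

universe u

open CategoryTheory AlgebraicGeometry

noncomputable section

namespace Groth.Agent.LefEtaleLib

variable {W T T' X : Scheme.{u}}

/-- The map `π_* O_W ⟶ g_* O_T` of a morphism `s : T ⟶ W` over the base. -/
def secMap {π : W ⟶ X} {g : T ⟶ X} (s : T ⟶ W) (h : s ≫ π = g) :
    (Scheme.Modules.pushforward π).obj (Coh.structureModule W) ⟶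
      (Scheme.Modules.pushforward g).obj (Coh.structureModule T) :=
  (Scheme.Modules.pushforward π).map (ClSub.unitToPush s) ≫ (Scheme.Modules.pushforwardComp s π).hom.app _ ≫
    (Scheme.Modules.pushforwardCongr h).hom.app _

theorem quotMap_eq_secMap {U : Scheme.{u}} {I J : U.IdealSheafData} (h : I ≤ J) :
    Lef.quotMap h = secMap (Scheme.IdealSheafData.inclusion h) (Scheme.IdealSheafData.inclusion_subschemeι h) := rfl

theorem secMap_app {π : W ⟶ X} {g : T ⟶ X} (s : T ⟶ W) (h : s ≫ π = g) (V : X.Opens)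
    (b : Γ(W, π ⁻¹ᵁ V)) :
    (secMap s h).app V b = T.presheaf.map (eqToHom (by subst h; rfl)).op (s.app (π ⁻¹ᵁ V) b) := by
  subst h
  simp [secMap, ClSub.unitToPush]
  rfl

theorem secMap_app_self {π : W ⟶ X} (s : T ⟶ W) (V : X.Opens) (b : Γ(W, π ⁻¹ᵁ V)) :
    (secMap (π := π) s rfl).app V b = s.app (π ⁻¹ᵁ V) b :=
  (secMap_app s rfl V b).trans (ConcreteCategory.congr_hom (T.presheaf.map_id _) _)

theorem secMap_comp {π : W ⟶ X} {g : T ⟶ X} {g' : T' ⟶ X} (s : T ⟶ W) (h : s ≫ π = g) (a : T' ⟶ T)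
    (h' : a ≫ g = g') :
    secMap s h ≫ secMap a h' = secMap (a ≫ s) (by rw [Category.assoc, h, h']) := by
  subst h
  subst h'
  refine Scheme.Modules.hom_ext _ _ fun V => AddCommGrpCat.hom_ext (AddMonoidHom.ext fun b => ?_)
  show (secMap a rfl).app V ((secMap s rfl).app V b) = (secMap (a ≫ s) _).app V b
  refine ((congrArg _ (secMap_app_self s V b)).trans (secMap_app_self a V _)).trans ?_
  rw [secMap_app (a ≫ s) _ V b]
  exact (ConcreteCategory.congr_hom (T'.presheaf.map_id _) _).symm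

theorem unitToPush_secMap {π : W ⟶ X} {g : T ⟶ X} (s : T ⟶ W) (h : s ≫ π = g) :
    ClSub.unitToPush π ≫ secMap s h = ClSub.unitToPush g := by
  refine Eq.trans ?_ (LefAmpleLib.unitToPush_congr h)
  rw [secMap, ← LefAmpleLib.unitToPush_comp, Category.assoc, Category.assoc]

theorem secMap_congr {π : W ⟶ X} {g : T ⟶ X} {s s' : T ⟶ W} (e : s = s') (h : s ≫ π = g) (h' : s' ≫ π = g) :
    secMap s h = secMap s' h' := by
  subst e
  rfl

end Groth.Agent.LefEtaleLib
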